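import Mathlib.CategoryTheory.Limits.Constructions.Filtered
import Mathlib.CategoryTheory.Preadditive.AdditiveFunctor
import Mathlib.CategoryTheory.Limits.Preserves.Filtered

/-! An additive functor commuting with filtered colimits commutes with sums. -/

set_option linter.style.haveILetI false
set_option backward.isDefEq.respectTransparency false

universe w w' v u

noncomputable section

namespace Groth.Agent.FMExactLib

open CategoryTheory Limits CoproductsFromFiniteFiltered

variable {C : Type w'} [Category.{v} C] [Preadditive C] [HasFiniteCoproducts C] [HasColimitsOfSize.{w, w} C]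
  {D : Type u} [Category.{v} D] [Preadditive D]

/-- An additive functor commuting with filtered colimits commutes with sums. -/
theorem preservesCoproducts_of_filtered (F : C ⥤ D) [F.Additive]
    (hF : ∀ (Λ : Type w) [SmallCategory Λ] [IsFiltered Λ], PreservesColimitsOfShape Λ F) (ι : Type w) :
    PreservesColimitsOfShape (Discrete ι) F := by
  classical
  suffices H : ∀ f : ι → C, PreservesColimit (Discrete.functor f) F from
    ⟨fun {K} => haveI := H (fun i => K.obj ⟨i⟩); preservesColimit_of_iso_diagram F Discrete.natIsoFunctor.symm⟩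
  intro f
  haveI := hF (Finset (Discrete ι))
  let c := finiteSubcoproductsCocone f
  have h : IsColimit (F.mapCocone c) := isColimitOfPreserves F (isColimitFiniteSubproductsCocone f)
  let hs : ∀ s : Finset (Discrete ι), IsColimit (F.mapCocone (colimit.cocone (Discrete.functor fun x : s => f x.1.as))) :=
    fun s => isColimitOfPreserves F (colimit.isColimit _)
  let leg : ∀ (t : Cocone (Discrete.functor f ⋙ F)) (s : Finset (Discrete ι)),
      F.obj ((liftToFinsetObj (Discrete.functor f)).obj s) ⟶ t.pt := fun t s =>
    (hs s).desc ⟨t.pt, Discrete.natTrans fun x => t.ι.app x.as.1⟩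
  have hleg : ∀ (t : Cocone (Discrete.functor f ⋙ F)) (s : Finset (Discrete ι)) (x : s),
      F.map (Sigma.ι (fun x : s => f x.1.as) x) ≫ leg t s = t.ι.app x.1 := fun t s x =>
    (hs s).fac _ ⟨x⟩
  let ext : ∀ (t : Cocone (Discrete.functor f ⋙ F)), Cocone (liftToFinsetObj (Discrete.functor f) ⋙ F) := fun t =>
    { pt := t.pt
      ι :=
        { app := leg t
          naturality := fun s s' g => by
            refine (hs s).hom_ext fun x => ?_
            refine Eq.trans ?_ (Eq.trans (hleg t s x.as).symm (congrArg (F.map _ ≫ ·) (Category.comp_id _).symm))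
            show F.map (Sigma.ι (fun x : s => f x.1.as) x.as) ≫ F.map ((liftToFinsetObj (Discrete.functor f)).map g) ≫
              leg t s' = _
            rw [← Category.assoc, ← Functor.map_comp]
            refine (congrArg (fun m => F.map m ≫ leg t s') (Sigma.ι_desc _ _)).trans ?_
            exact hleg t s' ⟨x.as.1, g.down.down x.as.2⟩ } }
  refine preservesColimit_of_preserves_colimit_cocone (coproductIsCoproduct f)
    { desc := fun t => h.desc (ext t), fac := fun t x => ?_, uniq := fun t m hm => ?_ }
  · have e : Sigma.ι f x.as = Sigma.ι (fun y : ({x} : Finset (Discrete ι)) => f y.1.as) ⟨x, Finset.mem_singleton_self x⟩ ≫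
        c.ι.app {x} := (Sigma.ι_desc (fun y : ({x} : Finset (Discrete ι)) => Sigma.ι f y.1.as) ⟨x, Finset.mem_singleton_self x⟩).symm
    show F.map (Sigma.ι f x.as) ≫ _ = _
    rw [e, Functor.map_comp, Category.assoc]
    refine (congrArg (F.map _ ≫ ·) (h.fac (ext t) {x})).trans ?_
    exact hleg t {x} ⟨x, Finset.mem_singleton_self x⟩
  · refine h.uniq (ext t) m fun s => (hs s).hom_ext fun y => ?_
    refine Eq.trans ?_ (hleg t s y.as).symm
    refine Eq.trans ?_ (hm y.as.1)
    show F.map (Sigma.ι (fun x : s => f x.1.as) y.as) ≫ F.map (c.ι.app s) ≫ m = F.map (Sigma.ι f y.as.1.as) ≫ m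
    rw [← Category.assoc, ← Functor.map_comp]
    exact congrArg (fun m' => F.map m' ≫ m) (Sigma.ι_desc _ _)

end Groth.Agent.FMExactLib
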